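/-
2-subgroups of GL₂ in odd characteristic whose determinant-one part is noncommutative.
-/
import Mathlib
import Cfsg.Agent.Lib.PGroups.Omega

set_option autoImplicit false
set_option linter.style.haveILetI false

namespace Cfsg.Agent.Lib.FusionPSL3

variable {K : Type*} [Field K]

local notation "G2" => GL (Fin 2) K

/-- The diagonal element with entries `a`, `b`. -/
def diagU (a b : Kˣ) : G2 :=
  ⟨!![(a : K), 0; 0, (b : K)], !![((a⁻¹ : Kˣ) : K), 0; 0, ((b⁻¹ : Kˣ) : K)],
    by simp [Matrix.one_fin_two], by simp [Matrix.one_fin_two]⟩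

/-- The swap of the two coordinates. -/
def swapU : G2 :=
  ⟨!![0, 1; 1, 0], !![0, 1; 1, 0], by simp [Matrix.one_fin_two], by simp [Matrix.one_fin_two]⟩

/-- The scalar -1. -/
abbrev negU : G2 := diagU (-1) (-1)

/-- The reflection diag(1,-1). -/
abbrev reflU : G2 := diagU 1 (-1)

/-- The product of the two reflections. -/
def quarterU : G2 := reflU * swapU

theorem diagU_val (a b : Kˣ) : (diagU a b : G2).1 = !![(a : K), 0; 0, (b : K)] := rfl

theorem swapU_val : (swapU : G2).1 = !![0, 1; 1, 0] := rfl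

theorem quarterU_val : (quarterU : G2).1 = !![0, 1; -1, 0] := by
  simp [quarterU, diagU_val, swapU_val]

theorem gl_ext {g h : G2} (a : g.1 0 0 = h.1 0 0) (b : g.1 0 1 = h.1 0 1)
    (c : g.1 1 0 = h.1 1 0) (d : g.1 1 1 = h.1 1 1) : g = h := by
  apply Units.ext
  ext i j
  fin_cases i <;> fin_cases j <;> assumption

theorem diagU_mul (a b c d : Kˣ) : (diagU a b : G2) * diagU c d = diagU (a * c) (b * d) := by
  apply gl_ext <;> simp [diagU_val]

theorem diagU_one : (diagU 1 1 : G2) = 1 := by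
  apply gl_ext <;> simp [diagU_val]

theorem diagU_inv (a b : Kˣ) : (diagU a b : G2)⁻¹ = diagU a⁻¹ b⁻¹ := by
  apply inv_eq_of_mul_eq_one_right
  rw [diagU_mul, mul_inv_cancel, mul_inv_cancel, diagU_one]

theorem diagU_pow (a b : Kˣ) (n : ℕ) : (diagU a b : G2) ^ n = diagU (a ^ n) (b ^ n) := by
  induction n with
  | zero => simp [diagU_one]
  | succ n ih => rw [pow_succ, ih, diagU_mul, pow_succ, pow_succ]

theorem det_diagU (a b : Kˣ) : Matrix.GeneralLinearGroup.det (diagU a b : G2) = a * b := by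
  ext
  simp [diagU_val, Matrix.det_fin_two_of]

theorem det_swapU : Matrix.GeneralLinearGroup.det (swapU : G2) = -1 := by
  ext
  simp [swapU_val, Matrix.det_fin_two_of]

theorem scalar_central (a : Kˣ) (g : G2) : diagU a a * g = g * diagU a a := by
  apply gl_ext <;> simp [diagU_val, Matrix.mul_apply, Fin.sum_univ_two, mul_comm]

theorem negU_mul_val (g : G2) : (negU * g).1 = -g.1 := by
  ext i j
  fin_cases i <;> fin_cases j <;> simp [diagU_val, Matrix.mul_apply, Fin.sum_univ_two]

theorem negU_sq : (negU : G2) * negU = 1 := by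
  rw [diagU_mul]; simp [diagU_one]

theorem negU_ne_one (h2 : (2 : K) ≠ 0) : (negU : G2) ≠ 1 := by
  intro h
  have := congrArg (fun g : G2 => g.1 0 0) h
  simp [diagU_val] at this
  exact h2 (by linear_combination -this)

theorem quarterU_sq : (quarterU : G2) * quarterU = negU := by
  apply gl_ext <;> simp [quarterU_val, diagU_val, Matrix.mul_apply, Fin.sum_univ_two]

theorem det_quarterU : Matrix.GeneralLinearGroup.det (quarterU : G2) = 1 := by
  ext
  simp [quarterU_val, Matrix.det_fin_two_of]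

/-- Not a scalar. -/
def NonScalarU (g : G2) : Prop := ∀ a : Kˣ, g ≠ diagU a a

theorem nonScalar_entries {g : G2} (hg : NonScalarU g) :
    g.1 0 1 ≠ 0 ∨ g.1 1 0 ≠ 0 ∨ g.1 0 0 ≠ g.1 1 1 := by
  by_contra h
  simp only [not_or, not_not] at h
  obtain ⟨hb, hc, hd⟩ := h
  have hne : g.1 0 0 ≠ 0 := by
    intro h0
    have := (Matrix.isUnit_iff_isUnit_det _).mp g.isUnit
    rw [Matrix.det_fin_two, hb, ← hd, h0] at this
    simp at this
  refine hg (Units.mk0 _ hne) ?_
  apply gl_ext <;> simp [diagU_val, hb, hc, hd]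

theorem commute_paramU {a b : G2} (ha : NonScalarU a) (h : b * a = a * b) :
    ∃ y : K, b.1 0 1 = y * a.1 0 1 ∧ b.1 1 0 = y * a.1 1 0 ∧
      b.1 0 0 - b.1 1 1 = y * (a.1 0 0 - a.1 1 1) := by
  have e00 := congrArg (fun g : G2 => g.1 0 0) h
  have e01 := congrArg (fun g : G2 => g.1 0 1) h
  have e10 := congrArg (fun g : G2 => g.1 1 0) h
  simp only [Units.val_mul, Matrix.mul_apply, Fin.sum_univ_two] at e00 e01 e10
  by_cases hq : a.1 0 1 = 0
  · by_cases hr : a.1 1 0 = 0
    · have hd : a.1 0 0 - a.1 1 1 ≠ 0 := by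
        intro h0
        rcases nonScalar_entries ha with h1 | h1 | h1
        · exact h1 hq
        · exact h1 hr
        · exact h1 (sub_eq_zero.mp h0)
      refine ⟨(b.1 0 0 - b.1 1 1) / (a.1 0 0 - a.1 1 1), ?_, ?_, ?_⟩ <;> field_simp
      · rw [hq] at e01 ⊢; linear_combination -e01
      · rw [hr] at e10 ⊢; linear_combination e10
    · refine ⟨b.1 1 0 / a.1 1 0, ?_, ?_, ?_⟩ <;> field_simp
      · linear_combination e00
      · linear_combination -e10
  · refine ⟨b.1 0 1 / a.1 0 1, ?_, ?_, ?_⟩ <;> field_simp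
    · linear_combination -e00
    · linear_combination e01

theorem commute_of_commuteU {a b c : G2} (ha : NonScalarU a) (hb : b * a = a * b)
    (hc : c * a = a * c) : b * c = c * b := by
  obtain ⟨y, y1, y2, y3⟩ := commute_paramU ha hb
  obtain ⟨z, z1, z2, z3⟩ := commute_paramU ha hc
  apply gl_ext <;> simp only [Units.val_mul, Matrix.mul_apply, Fin.sum_univ_two, y1, y2, z1, z2]
  · ring
  · linear_combination (z * a.1 0 1) * y3 - (y * a.1 0 1) * z3
  · linear_combination (y * a.1 1 0) * z3 - (z * a.1 1 0) * y3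
  · ring

/-- The centraliser of two noncommuting elements consists of scalars. -/
theorem scalar_of_commute_two {b u v : G2} (huv : u * v ≠ v * u) (hbu : b * u = u * b)
    (hbv : b * v = v * b) : ∃ a : Kˣ, b = diagU a a := by
  by_contra h
  push Not at h
  exact huv (commute_of_commuteU h hbu.symm hbv.symm)

theorem sq_neg_of_trace_zero {g : G2} (ht : g.1 0 0 + g.1 1 1 = 0)
    (hd : Matrix.GeneralLinearGroup.det g = 1) : g * g = negU := by
  have hd' : g.1 0 0 * g.1 1 1 - g.1 0 1 * g.1 1 0 = 1 := by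
    rw [← Matrix.det_fin_two]; exact congrArg Units.val hd
  apply gl_ext <;> simp [diagU_val, Matrix.mul_apply, Fin.sum_univ_two]
  · linear_combination g.1 0 0 * ht - hd'
  · linear_combination g.1 0 1 * ht
  · linear_combination g.1 1 0 * ht
  · linear_combination g.1 1 1 * ht - hd'

theorem trace_zero_of_anti (h2 : (2 : K) ≠ 0) {g u : G2} (h : g * u * g⁻¹ = negU * u) :
    g.1 0 0 + g.1 1 1 = 0 := by
  have hgu : g * u = negU * (u * g) := by
    rw [← mul_assoc, ← h]; group
  have e : u * g * u⁻¹ = negU * g := by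
    have : u * g = negU * (g * u) := by
      rw [hgu, ← mul_assoc, negU_sq, one_mul]
    rw [this]; group
  have t : Matrix.trace (negU * g).1 = Matrix.trace g.1 := by
    rw [← e, Units.val_mul, Units.val_mul, Matrix.trace_units_conj]
  rw [negU_mul_val, Matrix.trace_neg, Matrix.trace_fin_two] at t
  exact mul_left_cancel₀ h2 (by linear_combination -t)

/-- A non-scalar element of the determinant-one part, fixed up to sign by the whole 2-group. -/
def SignFixed (S₂ : Subgroup G2) (u : G2) : Prop :=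
  u ∈ S₂ ∧ Matrix.GeneralLinearGroup.det u = 1 ∧ u ≠ 1 ∧ u ≠ negU ∧
    ∀ s ∈ S₂, s * u * s⁻¹ = u ∨ s * u * s⁻¹ = negU * u

theorem scalar_det_one {a : Kˣ} (h : Matrix.GeneralLinearGroup.det (diagU a a : G2) = 1) :
    diagU a a = (1 : G2) ∨ diagU a a = (negU : G2) := by
  rw [det_diagU] at h
  have h' : (a : K) * a = 1 := by rw [← Units.val_mul, h, Units.val_one]
  rcases mul_self_eq_one_iff.mp h' with e | e
  · left; rw [show a = 1 from Units.ext e, diagU_one]
  · right; rw [show a = -1 from Units.ext (by simpa using e)]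

theorem SignFixed.nonScalar {S₂ : Subgroup G2} {u : G2} (hu : SignFixed S₂ u) : NonScalarU u := by
  intro a ha
  rcases scalar_det_one (a := a) (ha ▸ hu.2.1) with h | h
  · exact hu.2.2.1 (ha.trans h)
  · exact hu.2.2.2.1 (ha.trans h)

theorem exists_signFixed {S₂ : Subgroup G2} [Finite S₂] (hS : IsPGroup 2 S₂) (hneg : negU ∈ S₂)
    (hnc : ∃ x ∈ S₂, ∃ y ∈ S₂, Matrix.GeneralLinearGroup.det x = 1 ∧
      Matrix.GeneralLinearGroup.det y = 1 ∧ x * y ≠ y * x) :
    ∃ u, SignFixed S₂ u := by
  haveI : Fact (Nat.Prime 2) := ⟨Nat.prime_two⟩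
  obtain ⟨x, hx, y, hy, hdx, hdy, hxy⟩ := hnc
  let z : S₂ := ⟨negU, hneg⟩
  haveI hn : (Subgroup.zpowers z).Normal := by
    refine ⟨fun n hn g => ?_⟩
    have hc : Commute g z := Subtype.ext (scalar_central (-1) (g : G2)).symm
    obtain ⟨i, rfl⟩ := Subgroup.mem_zpowers_iff.mp hn
    rw [(hc.zpow_right i).eq, mul_inv_cancel_right]
    exact hn
  let π := QuotientGroup.mk' (Subgroup.zpowers z)
  let D : Subgroup S₂ := ((Matrix.GeneralLinearGroup.det).comp S₂.subtype).ker
  let N := D.map π
  haveI : N.Normal := (inferInstance : D.Normal).map π (QuotientGroup.mk'_surjective _)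
  have hQ : IsPGroup 2 (S₂ ⧸ Subgroup.zpowers z) := hS.to_quotient _
  have hz : ∀ s : S₂, π s = 1 ↔ (s : G2) = 1 ∨ (s : G2) = negU := by
    intro s
    rw [show π s = 1 ↔ s ∈ Subgroup.zpowers z from QuotientGroup.eq_one_iff s]
    constructor
    · intro h
      obtain ⟨i, rfl⟩ := Subgroup.mem_zpowers_iff.mp h
      rcases Int.even_or_odd i with ⟨l, rfl⟩ | ⟨l, rfl⟩
      · left
        show ((z : G2)) ^ (l + l) = 1
        rw [← two_mul, zpow_mul, zpow_two, negU_sq, one_zpow]
      · right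
        show ((z : G2)) ^ (2 * l + 1) = negU
        rw [zpow_add_one, zpow_mul, zpow_two, negU_sq, one_zpow, one_mul]
    · rintro (h | h)
      · rw [show s = 1 from Subtype.ext h]; exact one_mem _
      · rw [show s = z from Subtype.ext h]; exact Subgroup.mem_zpowers z
  have hNne : N ≠ ⊥ := by
    intro h
    have hmem : π ⟨x, hx⟩ ∈ N := Subgroup.mem_map_of_mem π hdx
    rw [h, Subgroup.mem_bot, hz] at hmem
    rcases hmem with e | e <;> subst e
    · simp at hxy
    · exact hxy (scalar_central (-1) y)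
  obtain ⟨c, ⟨⟨u, hu, rfl⟩, hcen⟩, hc1⟩ := (Subgroup.bot_or_exists_ne_one (N ⊓ Subgroup.center _)).resolve_left
    (Cfsg.Agent.Lib.PGroups.normal_inf_center_ne_bot hQ N hNne)
  rw [Ne, hz, not_or] at hc1
  refine ⟨u, u.2, hu, hc1.1, hc1.2, fun s hs => ?_⟩
  have := (Subgroup.mem_center_iff.mp hcen) (π ⟨s, hs⟩)
  have h1 : π (⟨s, hs⟩ * u * ⟨s, hs⟩⁻¹ * u⁻¹) = 1 := by
    simp only [map_mul, map_inv]
    rw [this]; group
  rcases (hz _).1 h1 with e | e
  · left; exact mul_inv_eq_one.mp e
  · right; exact mul_inv_eq_iff_eq_mul.mp e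

/-- The determinant-one part is generated by its elements of square -1. -/
theorem mem_closure_sq_neg (h2 : (2 : K) ≠ 0) {S₂ : Subgroup G2} {u : G2} (hu : SignFixed S₂ u)
    (hnc : ∃ x ∈ S₂, ∃ y ∈ S₂, Matrix.GeneralLinearGroup.det x = 1 ∧
      Matrix.GeneralLinearGroup.det y = 1 ∧ x * y ≠ y * x)
    {g : G2} (hg : g ∈ S₂) (hgd : Matrix.GeneralLinearGroup.det g = 1) :
    g ∈ Subgroup.closure {c : G2 | c ∈ S₂ ∧ Matrix.GeneralLinearGroup.det c = 1 ∧ c * c = negU} := by
  have sgn : ∀ s ∈ S₂, Matrix.GeneralLinearGroup.det s = 1 →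
      s * u * s⁻¹ = u ∨ (s ∈ {c : G2 | c ∈ S₂ ∧ Matrix.GeneralLinearGroup.det c = 1 ∧ c * c = negU} ∧
        s * u * s⁻¹ = negU * u) := by
    intro s hs hsd
    rcases hu.2.2.2.2 s hs with h | h
    · exact Or.inl h
    · exact Or.inr ⟨⟨hs, hsd, sq_neg_of_trace_zero (trace_zero_of_anti h2 h) hsd⟩, h⟩
  obtain ⟨g₀, hg₀, hg₀m, hg₀u⟩ : ∃ g₀, g₀ ∈ S₂ ∧
      g₀ ∈ {c : G2 | c ∈ S₂ ∧ Matrix.GeneralLinearGroup.det c = 1 ∧ c * c = negU} ∧
      g₀ * u * g₀⁻¹ = negU * u := by
    obtain ⟨x, hx, y, hy, hdx, hdy, hxy⟩ := hnc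
    rcases sgn x hx hdx with h | h
    · rcases sgn y hy hdy with h' | h'
      · exact absurd (commute_of_commuteU hu.nonScalar (mul_inv_eq_iff_eq_mul.mp h)
          (mul_inv_eq_iff_eq_mul.mp h')) hxy
      · exact ⟨y, hy, h'⟩
    · exact ⟨x, hx, h⟩
  rcases sgn g hg hgd with h | h
  · have e : (g * g₀) * u * (g * g₀)⁻¹ = negU * u := by
      calc (g * g₀) * u * (g * g₀)⁻¹ = g * (g₀ * u * g₀⁻¹) * g⁻¹ := by group
        _ = g * negU * (u * g⁻¹) := by rw [hg₀u]; group
        _ = negU * (g * u * g⁻¹) := by rw [← scalar_central (-1) g]; group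
        _ = negU * u := by rw [h]
    have hm : g * g₀ ∈ {c : G2 | c ∈ S₂ ∧ Matrix.GeneralLinearGroup.det c = 1 ∧ c * c = negU} := by
      have hd' : Matrix.GeneralLinearGroup.det (g * g₀) = 1 := by rw [map_mul, hgd, hg₀m.2.1, one_mul]
      exact ⟨S₂.mul_mem hg hg₀, hd', sq_neg_of_trace_zero (trace_zero_of_anti h2 e) hd'⟩
    have := Subgroup.mul_mem _ (Subgroup.subset_closure hm) (Subgroup.inv_mem _ (Subgroup.subset_closure hg₀m))
    simpa using this
  · exact Subgroup.subset_closure h.1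

/-- Odd order elements normalising the 2-group centralise it. -/
theorem odd_centralizes (h2 : (2 : K) ≠ 0) {S₂ : Subgroup G2} [Finite S₂] (hS : IsPGroup 2 S₂)
    (hneg : negU ∈ S₂)
    (hnc : ∃ x ∈ S₂, ∃ y ∈ S₂, Matrix.GeneralLinearGroup.det x = 1 ∧
      Matrix.GeneralLinearGroup.det y = 1 ∧ x * y ≠ y * x)
    {H : Subgroup G2} (hSH : S₂ ≤ H)
    (hns : ∃ s ∈ S₂, ∀ a : Kˣ, diagU a a ∈ H → Matrix.GeneralLinearGroup.det s ≠ a * a)
    {n : G2} {r : ℕ} (hr : Odd r) (hn : n ^ r = 1) (hnorm : ∀ s ∈ S₂, n * s * n⁻¹ ∈ S₂)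
    (hnorm' : ∀ s ∈ S₂, n⁻¹ * s * n ∈ S₂) : ∀ s : G2, s ∈ S₂ → n * s = s * n := by
  obtain ⟨u, hu⟩ := exists_signFixed hS hneg hnc
  have hns' := hu.nonScalar
  -- any two sign-fixed elements commute
  have hcomm : ∀ v, SignFixed S₂ v → v * u = u * v := by
    intro v hv
    by_contra hne
    have hvu : v * u * v⁻¹ = negU * u :=
      (hu.2.2.2.2 v hv.1).resolve_left fun h => hne (mul_inv_eq_iff_eq_mul.mp h)
    obtain ⟨s, hs, hsd⟩ := hns
    -- correct `s` by an element of determinant one to centralise both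
    obtain ⟨t, ht, htd, htu⟩ : ∃ t ∈ S₂, Matrix.GeneralLinearGroup.det t = 1 ∧
        (t * s) * u * (t * s)⁻¹ = u := by
      rcases hu.2.2.2.2 s hs with h | h
      · exact ⟨1, one_mem _, map_one _, by rw [one_mul]; exact h⟩
      · refine ⟨v, hv.1, hv.2.1, ?_⟩
        calc v * s * u * (v * s)⁻¹ = v * (s * u * s⁻¹) * v⁻¹ := by group
          _ = v * negU * (u * v⁻¹) := by rw [h]; group
          _ = negU * (v * u * v⁻¹) := by rw [← scalar_central (-1) v]; group
          _ = u := by rw [hvu, ← mul_assoc, negU_sq, one_mul]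
    obtain ⟨t', ht', htd', htu', htv'⟩ : ∃ t' ∈ S₂, Matrix.GeneralLinearGroup.det t' = 1 ∧
        (t' * (t * s)) * u * (t' * (t * s))⁻¹ = u ∧ (t' * (t * s)) * v * (t' * (t * s))⁻¹ = v := by
      rcases hv.2.2.2.2 (t * s) (S₂.mul_mem ht hs) with h | h
      · exact ⟨1, one_mem _, map_one _, by rw [one_mul]; exact htu, by rw [one_mul]; exact h⟩
      · have huv : u * v * u⁻¹ = negU * v := by
          have e : v * u = negU * (u * v) := by rw [← mul_assoc, ← hvu]; group
          have e' : u * v = negU * (v * u) := by rw [e, ← mul_assoc, negU_sq, one_mul]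
          rw [e']; group
        refine ⟨u, hu.1, hu.2.1, ?_, ?_⟩
        · calc u * (t * s) * u * (u * (t * s))⁻¹ = u * (t * s * u * (t * s)⁻¹) * u⁻¹ := by group
            _ = u := by rw [htu]; group
        · calc u * (t * s) * v * (u * (t * s))⁻¹ = u * (t * s * v * (t * s)⁻¹) * u⁻¹ := by group
            _ = u * negU * (v * u⁻¹) := by rw [h]; group
            _ = negU * (u * v * u⁻¹) := by rw [← scalar_central (-1) u]; group
            _ = v := by rw [huv, ← mul_assoc, negU_sq, one_mul]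
    obtain ⟨a, ha⟩ := scalar_of_commute_two (Ne.symm hne) (mul_inv_eq_iff_eq_mul.mp htu')
      (mul_inv_eq_iff_eq_mul.mp htv')
    refine hsd a (ha ▸ hSH (S₂.mul_mem ht' (S₂.mul_mem ht hs))) ?_
    have := congrArg Matrix.GeneralLinearGroup.det ha
    rw [det_diagU, map_mul, map_mul, htd, htd', one_mul, one_mul] at this
    exact this
  have hfix : SignFixed S₂ (n * u * n⁻¹) := by
    refine ⟨hnorm u hu.1, ?_, ?_, ?_, ?_⟩
    · rw [map_mul, map_mul, map_inv, hu.2.1, mul_one, mul_inv_cancel]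
    · intro h; exact hu.2.2.1 (conj_eq_one_iff.mp h)
    · intro h
      apply hu.2.2.2.1
      calc u = n⁻¹ * (n * u * n⁻¹) * n := by group
        _ = negU := by rw [h, mul_assoc, scalar_central (-1) n]; group
    · intro s hs
      rcases hu.2.2.2.2 _ (hnorm' s hs) with h | h
      · left
        calc s * (n * u * n⁻¹) * s⁻¹ = n * (n⁻¹ * s * n * u * (n⁻¹ * s * n)⁻¹) * n⁻¹ := by group
          _ = _ := by rw [h]
      · right
        calc s * (n * u * n⁻¹) * s⁻¹ = n * (n⁻¹ * s * n * u * (n⁻¹ * s * n)⁻¹) * n⁻¹ := by group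
          _ = n * negU * (u * n⁻¹) := by rw [h]; group
          _ = _ := by rw [← scalar_central (-1) n]; group
  -- n fixes u
  have hnu : n * u = u * n := by
    have hc := hcomm _ hfix
    obtain ⟨y, y1, y2, y3⟩ := commute_paramU hns' hc
    have htr : Matrix.trace (n * u * n⁻¹).1 = Matrix.trace u.1 := by
      rw [Units.val_mul, Units.val_mul, Matrix.trace_units_conj]
    -- a square of n fixes u
    have key : n * u * n⁻¹ = u ∨ (n * u * n⁻¹) * u = 1 := by
      have d1 : u.1 0 0 * u.1 1 1 - u.1 0 1 * u.1 1 0 = 1 := by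
        rw [← Matrix.det_fin_two]; exact congrArg Units.val hu.2.1
      have d2 : (n * u * n⁻¹).1 0 0 * (n * u * n⁻¹).1 1 1 - (n * u * n⁻¹).1 0 1 * (n * u * n⁻¹).1 1 0 = 1 := by
        rw [← Matrix.det_fin_two]; exact congrArg Units.val hfix.2.1
      rw [Matrix.trace_fin_two, Matrix.trace_fin_two] at htr
      set b := n * u * n⁻¹
      rw [y1, y2] at d2
      have hD : (y ^ 2 - 1) * ((u.1 0 0 - u.1 1 1) ^ 2 + 4 * (u.1 0 1 * u.1 1 0)) = 0 := by
        linear_combination (-4 : K) * d2 + 4 * d1 +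
          (b.1 0 0 + b.1 1 1 + (u.1 0 0 + u.1 1 1)) * htr
          - (b.1 0 0 - b.1 1 1 + y * (u.1 0 0 - u.1 1 1)) * y3
      rcases mul_eq_zero.mp hD with h | h
      · rcases mul_self_eq_one_iff.mp (show y * y = 1 by linear_combination h) with rfl | rfl
        · left
          refine gl_ext ?_ (by rw [y1, one_mul]) (by rw [y2, one_mul]) ?_ <;> apply mul_left_cancel₀ h2
          · linear_combination htr + y3
          · linear_combination htr - y3
        · right
          have b0 : b.1 0 0 = u.1 1 1 := mul_left_cancel₀ h2 (by linear_combination htr + y3)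
          have b1 : b.1 1 1 = u.1 0 0 := mul_left_cancel₀ h2 (by linear_combination htr - y3)
          apply gl_ext <;> simp [Matrix.mul_apply, Fin.sum_univ_two, y1, y2, b0, b1]
          · linear_combination d1
          · ring
          · ring
          · linear_combination d1
      · -- the trace is ±2: u would be ±unipotent
        exfalso
        obtain ⟨k, hk⟩ := hS ⟨u, hu.1⟩
        have hk' : u ^ 2 ^ k = 1 := congrArg Subtype.val hk
        have ht : (u.1 0 0 + u.1 1 1) * (u.1 0 0 + u.1 1 1) = 2 * 2 := by linear_combination h + 4 * d1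
        have uni : ∀ w : G2, w.1 0 0 + w.1 1 1 = 2 → Matrix.GeneralLinearGroup.det w = 1 →
            ∀ j : ℕ, w ^ 2 ^ j = 1 → w = 1 := by
          intro w hw hwd j hj
          have dw : w.1 0 0 * w.1 1 1 - w.1 0 1 * w.1 1 0 = 1 := by
            rw [← Matrix.det_fin_two]; exact congrArg Units.val hwd
          have hN : (w.1 - 1) * (w.1 - 1) = 0 := by
            ext i k'
            fin_cases i <;> fin_cases k' <;> simp [Matrix.mul_apply, Fin.sum_univ_two]
            · linear_combination w.1 0 0 * hw - dw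
            · linear_combination w.1 0 1 * hw
            · linear_combination w.1 1 0 * hw
            · linear_combination w.1 1 1 * hw - dw
          have hp : ∀ l : ℕ, w.1 ^ l = 1 + (l : K) • (w.1 - 1) := by
            intro l
            induction l with
            | zero => simp
            | succ l ih =>
              calc w.1 ^ (l + 1) = (1 + (l : K) • (w.1 - 1)) * (1 + (w.1 - 1)) := by
                    rw [pow_succ, ih, add_sub_cancel]
                _ = 1 + ((l + 1 : ℕ) : K) • (w.1 - 1) := by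
                    rw [add_mul, one_mul, mul_add, mul_one, smul_mul_assoc, hN, smul_zero]
                    push_cast
                    rw [add_smul, one_smul]; abel
          have h1 := hp (2 ^ j)
          rw [← Units.val_pow_eq_pow_val, hj, Units.val_one, eq_comm, add_eq_left, smul_eq_zero] at h1
          rcases h1 with h1 | h1
          · push_cast at h1; exact absurd h1 (pow_ne_zero _ h2)
          · exact Units.ext (sub_eq_zero.mp h1)
        rcases mul_self_eq_mul_self_iff.mp ht with e | e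
        · exact hu.2.2.1 (uni u e hu.2.1 k hk')
        · have := uni (negU * u) (by rw [negU_mul_val]; simp; linear_combination -e)
            (by rw [map_mul, det_diagU, hu.2.1]; simp) (k + 1) (by
              have hcm : Commute (negU : G2) u := scalar_central (-1) u
              rw [hcm.mul_pow, pow_succ, pow_mul u, hk', one_pow, mul_one, mul_comm, pow_mul, pow_two,
                negU_sq, one_pow])
          apply hu.2.2.2.1
          calc u = negU * (negU * u) := by rw [← mul_assoc, negU_sq, one_mul]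
            _ = negU := by rw [this, mul_one]
    rcases key with h | h
    · exact mul_inv_eq_iff_eq_mul.mp h
    · obtain ⟨l, rfl⟩ := hr
      have hi : n * u * n⁻¹ = u⁻¹ := eq_inv_of_mul_eq_one_left h
      have h2n : Commute (n ^ 2) u := by
        show n ^ 2 * u = u * n ^ 2
        rw [← mul_inv_eq_iff_eq_mul]
        calc n ^ 2 * u * (n ^ 2)⁻¹ = n * (n * u * n⁻¹) * n⁻¹ := by rw [pow_two]; group
          _ = n * u⁻¹ * n⁻¹ := by rw [hi]
          _ = (n * u * n⁻¹)⁻¹ := conj_inv.symm
          _ = u := by rw [hi, inv_inv]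
      have hodd : n ^ (2 * l + 1) * u = u⁻¹ * n ^ (2 * l + 1) := by
        have hh : n * u = u⁻¹ * n := mul_inv_eq_iff_eq_mul.mp hi
        have hc : Commute (n ^ (2 * l)) u⁻¹ := by rw [pow_mul]; exact (h2n.pow_left l).inv_right
        rw [pow_succ, mul_assoc, hh, ← mul_assoc, hc.eq, mul_assoc]
      rw [hn, one_mul, mul_one] at hodd
      rw [← hodd] at hi
      exact mul_inv_eq_iff_eq_mul.mp hi
  have hfixD : ∀ g ∈ S₂, Matrix.GeneralLinearGroup.det g = 1 → n * g = g * n := by
    intro g hg hgd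
    set c := n * g * n⁻¹ * g⁻¹ with hcdef
    have hsgn : ∀ ε : G2, g * u * g⁻¹ = ε → n * ε * n⁻¹ = ε → c * u = u * c := by
      intro ε h1 h3
      have e1 : (n * g * n⁻¹) * u * (n * g * n⁻¹)⁻¹ = ε := by
        calc (n * g * n⁻¹) * u * (n * g * n⁻¹)⁻¹ = n * (g * (n⁻¹ * (u * n)) * g⁻¹) * n⁻¹ := by group
          _ = n * (g * u * g⁻¹) * n⁻¹ := by rw [← hnu]; group
          _ = ε := by rw [h1, h3]
      rw [← mul_inv_eq_iff_eq_mul, hcdef]
      calc n * g * n⁻¹ * g⁻¹ * u * (n * g * n⁻¹ * g⁻¹)⁻¹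
          = (n * g * n⁻¹) * (g⁻¹ * u * g) * (n * g * n⁻¹)⁻¹ := by group
        _ = u := by
          rcases hu.2.2.2.2 g hg with h | h
          · have e : g⁻¹ * u * g = u := by
              conv_lhs => rw [← h]
              group
            rw [e, e1, ← h1, h]
          · have e : g⁻¹ * u * g = negU * u := by
              have e' : u = negU * (g * u * g⁻¹) := by rw [h, ← mul_assoc, negU_sq, one_mul]
              calc g⁻¹ * u * g = g⁻¹ * (negU * (g * u * g⁻¹)) * g := by rw [← e']
                _ = g⁻¹ * (negU * g) * u := by group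
                _ = negU * u := by rw [scalar_central (-1) g]; group
            calc (n * g * n⁻¹) * (g⁻¹ * u * g) * (n * g * n⁻¹)⁻¹
                = (n * g * n⁻¹ * negU) * (u * (n * g * n⁻¹)⁻¹) := by rw [e]; group
              _ = negU * ((n * g * n⁻¹) * u * (n * g * n⁻¹)⁻¹) := by
                rw [← scalar_central (-1) (n * g * n⁻¹)]; group
              _ = u := by rw [e1, ← h1, h, ← mul_assoc, negU_sq, one_mul]
    have hcu : c * u = u * c := by
      rcases hu.2.2.2.2 g hg with h | h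
      · exact hsgn u h (mul_inv_eq_iff_eq_mul.mpr hnu)
      · refine hsgn _ h ?_
        rw [← mul_assoc, ← scalar_central (-1) n, mul_assoc negU, hnu, ← mul_assoc, mul_inv_cancel_right]
    have hnc' : Commute n c := commute_of_commuteU hns' hnu hcu
    have hpow : ∀ l : ℕ, n ^ l * g * (n ^ l)⁻¹ = c ^ l * g := by
      intro l
      induction l with
      | zero => simp
      | succ l ih =>
        calc n ^ (l + 1) * g * (n ^ (l + 1))⁻¹ = n * (n ^ l * g * (n ^ l)⁻¹) * n⁻¹ := by rw [pow_succ']; group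
          _ = n * c ^ l * (g * n⁻¹) := by rw [ih]; group
          _ = c ^ l * (n * g * n⁻¹) := by rw [(hnc'.pow_right l).eq]; group
          _ = c ^ (l + 1) * g := by rw [pow_succ, hcdef]; group
    have h1 := hpow r
    rw [hn, one_mul, inv_one, mul_one] at h1
    have hcr : c ^ r = 1 := mul_eq_right.mp h1.symm
    obtain ⟨k, hk⟩ := hS ⟨c, S₂.mul_mem (hnorm g hg) (S₂.inv_mem hg)⟩
    have hk' : c ^ 2 ^ k = 1 := congrArg Subtype.val hk
    have hc1 : c = 1 := by
      have hg' := Nat.dvd_gcd (orderOf_dvd_of_pow_eq_one hcr) (orderOf_dvd_of_pow_eq_one hk')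
      have hco : Nat.gcd r (2 ^ k) = 1 := Nat.Coprime.pow_right k hr.coprime_two_right
      rw [hco, Nat.dvd_one, orderOf_eq_one_iff] at hg'
      exact hg'
    rw [hcdef, mul_inv_eq_one, mul_inv_eq_iff_eq_mul] at hc1
    exact hc1
  intro s hs
  obtain ⟨x, hx, y, hy, hdx, hdy, hxy⟩ := hnc
  obtain ⟨a, rfl⟩ := scalar_of_commute_two hxy (hfixD x hx hdx) (hfixD y hy hdy)
  exact scalar_central a s

end Cfsg.Agent.Lib.FusionPSL3
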